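import Groth.Prelude.Def_CxOX
import Groth.Agent.KFlatLib.Scheme.RpushFF
import Groth.Agent.KFlatLib.Scheme.SupportPush
import Groth.Agent.KFlatLib.Scheme.RpushTriangle
import Groth.Agent.KFlatLib.Scheme.RpushBound
import Groth.Agent.KFlatLib.Scheme.FlatBCDerived
import Groth.Agent.KFlatLib.Scheme.GammaPushUnit
import Groth.Agent.KFlatLib.Scheme.TriNatShift
import Groth.Agent.LocCohDepth.GammaQCoh
import Groth.Agent.QCoh.RpushGod

/-!
# Sections with support in the derived category of modules: orthogonality and the triangle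
-/

set_option autoImplicit false
set_option linter.style.haveILetI false
set_option linter.unusedSectionVars false
set_option backward.isDefEq.respectTransparency false
set_option backward.isDefEq.respectTransparency.types false

universe u

open CategoryTheory CategoryTheory.Limits AlgebraicGeometry TopologicalSpace Opposite Pretriangulated

attribute [local instance] HasDerivedCategory.standard

noncomputable section

namespace Groth.Agent.CxSuppLib

open KFlatLib

variable {U X : Scheme.{u}} (j : U ⟶ X) [IsOpenImmersion j]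

/-- An object whose cohomology vanishes is zero. -/
theorem isZero_of_hd {K : DCoh.D X} (h : ∀ i : ℤ, IsZero (DCoh.HD K i)) : IsZero K := by
  have h0 : IsIso (0 : K ⟶ K) := (DerivedCategory.isIso_iff _ _).2 fun i =>
    ⟨⟨0, (h i).eq_of_src _ _, (h i).eq_of_src _ _⟩⟩
  exact (IsZero.iff_id_eq_zero _).2 ((isIsoZeroEquiv _ _).toFun h0).1

/-- The cohomology of a restriction. -/
theorem nonempty_hd_rho (K : DCoh.D X) (i : ℤ) :
    Nonempty (DCoh.HD ((rho j).obj K) i ≅ (Scheme.Modules.restrictFunctor j).obj (DCoh.HD K i)) :=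
  ⟨(mapDCHomologyIso (Scheme.Modules.restrictFunctor j) i).app K⟩

/-- The support of a module misses an open iff the restriction vanishes. -/
theorem isZero_restrict_iff (M : X.Modules) :
    IsZero ((Scheme.Modules.restrictFunctor j).obj M) ↔ CohB1.support M ⊆ (Set.range j.base)ᶜ := by
  constructor
  · intro h x hx ⟨u, hu⟩
    subst hu
    exact hx (((Scheme.Modules.restrictStalkNatIso j u).app M).addCommGroupIsoToAddEquiv.toEquiv.subsingleton_congr.1
      (ModuleCat.subsingleton_of_isZero ((DerSch.stalkFunctor U u).map_isZero h)))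
  · intro h
    refine KFlatLib.isZero_of_stalk _ fun u => ?_
    haveI : Subsingleton (M.presheaf.stalk (j.base u)) := not_not.1 fun h' => h h' ⟨u, rfl⟩
    exact @ModuleCat.isZero_of_subsingleton _ _ _
      (((Scheme.Modules.restrictStalkNatIso j u).app M).addCommGroupIsoToAddEquiv.toEquiv.subsingleton_congr.2 this)

/-- Being supported away from `j` is vanishing of the restriction. -/
theorem isSuppD_iff (K : DCoh.D X) : CxOX.IsSuppD j K ↔ IsZero ((DCoh.restrictD j).obj K) := by
  refine ⟨fun h => isZero_of_hd fun i => ?_, fun h i => (isZero_restrict_iff j _).1 ?_⟩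
  · obtain ⟨e⟩ := nonempty_hd_rho j K i
    exact ((isZero_restrict_iff j _).2 (h i)).of_iso e
  · obtain ⟨e⟩ := nonempty_hd_rho j K i
    exact ((DerivedCategory.homologyFunctor _ i).map_isZero h).of_iso e.symm

/-- An object vanishing on the members of a cover by two open immersions is zero. -/
theorem isZero_of_cover {V : Scheme.{u}} (j' : V ⟶ X) [IsOpenImmersion j'] (K : DCoh.D X)
    (hcov : ∀ x : X, x ∈ Set.range j.base ∨ x ∈ Set.range j'.base)
    (h : IsZero ((DCoh.restrictD j).obj K)) (h' : IsZero ((DCoh.restrictD j').obj K)) : IsZero K := by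
  refine isZero_of_hd fun i => KFlatLib.isZero_of_stalk _ fun x => ?_
  have hs : x ∉ CohB1.support (DCoh.HD K i) := fun hx =>
    (hcov x).elim ((isSuppD_iff j K).2 h i hx) ((isSuppD_iff j' K).2 h' i hx)
  exact @ModuleCat.isZero_of_subsingleton _ _ _ (not_not.1 hs : Subsingleton ((DCoh.HD K i).presheaf.stalk x))

/-- The objects orthogonal to those supported away from `j`. -/
def IsOrth (P : DCoh.D X) : Prop :=
  ∀ A : DCoh.D X, IsZero ((DCoh.restrictD j).obj A) → ∀ f : A ⟶ P, f = 0

theorem IsOrth.of_iso {P Q : DCoh.D X} (e : P ≅ Q) (h : IsOrth j P) : IsOrth j Q := fun A hA f => by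
  rw [← cancel_mono e.inv, zero_comp]
  exact h A hA _

/-- Shifts of supported objects are supported. -/
theorem isZero_restrictD_shift {A : DCoh.D X} (hA : IsZero ((DCoh.restrictD j).obj A)) (n : ℤ) :
    IsZero ((DCoh.restrictD j).obj (A⟦n⟧)) :=
  ((shiftFunctor _ n).map_isZero hA).of_iso (((DCoh.restrictD j).commShiftIso n).app _)

theorem isOrth_rpush [DCoh.HasRpush j] (F : DCoh.D U) : IsOrth j ((DCoh.Rpush j).obj F) := fun A hA f => by
  obtain ⟨adj⟩ := nonempty_rho_adj j
  exact (adj.homEquiv A F).symm.injective (hA.eq_of_src _ _)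

/-- Composition with the first map of a triangle with orthogonal third object is bijective on maps from supported
objects. -/
theorem bijective_of_triangle (T : Triangle (DCoh.D X)) (hT : T ∈ distTriang _) (h₃ : IsOrth j T.obj₃)
    {A : DCoh.D X} (hA : IsZero ((DCoh.restrictD j).obj A)) :
    Function.Bijective fun g : A ⟶ T.obj₁ => g ≫ T.mor₁ := by
  refine ⟨fun g g' hgg => sub_eq_zero.1 ?_, fun f => ?_⟩
  · have h0 : (g - g') ≫ T.mor₁ = 0 := by
      rw [Preadditive.sub_comp, sub_eq_zero]
      exact hgg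
    obtain ⟨χ, hχ⟩ := Triangle.coyoneda_exact₂ _ (inv_rot_of_distTriang T hT) (g - g') h0
    rw [hχ]
    suffices χ = 0 by rw [this]; exact zero_comp
    refine (shiftFunctor _ (1 : ℤ)).map_injective ?_
    rw [Functor.map_zero,
      ← cancel_mono ((shiftFunctorCompIsoId _ (-1 : ℤ) 1 (by omega)).hom.app T.obj₃), zero_comp]
    exact h₃ _ (isZero_restrictD_shift j hA 1) _
  · obtain ⟨g, hg⟩ := Triangle.coyoneda_exact₂ T hT f (h₃ A hA _)
    exact ⟨g, hg.symm⟩

/-- A morphism between supported objects over `K` is invertible as soon as both are universal. -/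
theorem isIso_of_bijective {A B K : DCoh.D X} (a : A ⟶ K) (b : B ⟶ K)
    (hA : IsZero ((DCoh.restrictD j).obj A)) (hB : IsZero ((DCoh.restrictD j).obj B))
    (ha : ∀ C, IsZero ((DCoh.restrictD j).obj C) → Function.Bijective fun g : C ⟶ A => g ≫ a)
    (hb : ∀ C, IsZero ((DCoh.restrictD j).obj C) → Function.Bijective fun g : C ⟶ B => g ≫ b)
    (φ : A ⟶ B) (hφ : φ ≫ b = a) : IsIso φ := by
  obtain ⟨ψ, hψ⟩ := (ha B hB).2 b
  change ψ ≫ a = b at hψ
  refine ⟨ψ, (ha A hA).1 ?_, (hb B hB).1 ?_⟩
  · change (φ ≫ ψ) ≫ a = 𝟙 A ≫ a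
    rw [Category.assoc, hψ, hφ, Category.id_comp]
  · change (ψ ≫ φ) ≫ b = 𝟙 B ≫ b
    rw [Category.assoc, hφ, hψ, Category.id_comp]

section Gamma

variable (X) in
abbrev qq := HomotopyCategory.quotient X.Modules (ComplexShape.up ℤ)

/-- The inclusion of sections with support, on complexes. -/
abbrev ιCx (I : CochainComplex X.Modules ℤ) :
    ((DCoh.gammaZ j).mapHomologicalComplex (ComplexShape.up ℤ)).obj I ⟶ I :=
  (NatTrans.mapHomologicalComplex (CxOX.gammaZι j) (ComplexShape.up ℤ)).app I ≫
    (Functor.mapHomologicalComplexIdIso X.Modules (ComplexShape.up ℤ)).hom.app I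

/-- The map to the pushforward of the restriction, on complexes. -/
abbrev ηCx (I : CochainComplex X.Modules ℤ) :
    I ⟶ ((Scheme.Modules.pushforward j).mapHomologicalComplex (ComplexShape.up ℤ)).obj ((rCx j).obj I) where
  f n := (Scheme.Modules.restrictAdjunction j).unit.app (I.X n)
  comm' p q _ := ((Scheme.Modules.restrictAdjunction j).unit.naturality (I.d p q)).symm

theorem ιCx_f (I : CochainComplex X.Modules ℤ) (n : ℤ) :
    (ιCx j I).f n = kernel.ι ((Scheme.Modules.restrictAdjunction j).unit.app (I.X n)) := by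
  simp [ιCx, CxOX.gammaZι]
  exact Category.comp_id _

theorem ιCx_ηCx (I : CochainComplex X.Modules ℤ) : ιCx j I ≫ ηCx j I = 0 := by
  ext n : 1
  rw [HomologicalComplex.comp_f, ιCx_f]
  exact kernel.condition _

/-- Sections with support of a complex of injectives. -/
theorem shortExact (I : CochainComplex X.Modules ℤ) [∀ n, Injective (I.X n)] :
    (ShortComplex.mk (ιCx j I) (ηCx j I) (ιCx_ηCx j I)).ShortExact := by
  refine HomologicalComplex.shortExact_of_degreewise_shortExact _ fun n => ?_
  have hm : (ιCx j I).f n = kernel.ι ((Scheme.Modules.restrictAdjunction j).unit.app (I.X n)) := ιCx_f j I n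
  haveI : Mono ((ιCx j I).f n) := by rw [hm]; infer_instance
  haveI he : Epi ((Scheme.Modules.restrictAdjunction j).unit.app (I.X n)) :=
    LocCohDepth.epi_unitJ_of_flasque j _ (QCoh.isFlasqueMod_of_injective _)
  refine ShortComplex.ShortExact.mk' ?_ (inferInstanceAs (Mono ((ιCx j I).f n))) (show Epi ((ηCx j I).f n) from he)
  refine (ShortComplex.exact_iff_of_iso (ShortComplex.isoMk (Iso.refl _) (Iso.refl _) (Iso.refl _) ?_ ?_)).2
    (ShortComplex.exact_of_f_is_kernel _ (kernelIsKernel ((Scheme.Modules.restrictAdjunction j).unit.app (I.X n))))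
  · change 𝟙 _ ≫ kernel.ι _ = (ιCx j I).f n ≫ 𝟙 _
    rw [Category.id_comp, Category.comp_id, hm]
  · change 𝟙 _ ≫ (Scheme.Modules.restrictAdjunction j).unit.app (I.X n) =
      (Scheme.Modules.restrictAdjunction j).unit.app (I.X n) ≫ 𝟙 _
    rw [Category.id_comp, Category.comp_id]

/-- Sections with support restrict to zero. -/
theorem isZero_restrict_gammaZ (M : X.Modules) :
    IsZero ((Scheme.Modules.restrictFunctor j).obj ((DCoh.gammaZ j).obj M)) := by
  let η := (Scheme.Modules.restrictAdjunction j).unit.app M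
  haveI : IsIso ((Scheme.Modules.restrictFunctor j).map η) := by
    have h := (Scheme.Modules.restrictAdjunction j).left_triangle_components M
    haveI : IsIso ((Scheme.Modules.restrictFunctor j).map η ≫
        (Scheme.Modules.restrictAdjunction j).counit.app ((Scheme.Modules.restrictFunctor j).obj M)) := by
      rw [h]; exact (Iso.refl _).isIso_hom
    exact IsIso.of_isIso_comp_right _ ((Scheme.Modules.restrictAdjunction j).counit.app _)
  exact (isZero_kernel_of_mono ((Scheme.Modules.restrictFunctor j).map η)).of_iso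
    (PreservesKernel.iso (Scheme.Modules.restrictFunctor j) η)

variable [CxOX.HasRgammaZ j]

theorem gammaZKhι_app (I : CochainComplex X.Modules ℤ) :
    (CxOX.gammaZKhι j).app ((qq X).obj I) =
      DerivedCategory.Qh.map (((DCoh.gammaZ j).mapHomotopyCategoryFactors (ComplexShape.up ℤ)).hom.app I ≫
        (qq X).map (ιCx j I)) := by
  unfold CxOX.gammaZKhι
  erw [CategoryTheory.Quotient.natTransLift_app]
  simp [ιCx]

/-- The triangle of sections with support, with orthogonal third object. -/
theorem exists_triangle (K : DCoh.D X) :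
    ∃ (F : DCoh.D U) (_ : DCoh.HasRpush j) (g : K ⟶ (DCoh.Rpush j).obj F)
      (δ : (DCoh.Rpush j).obj F ⟶ ((CxOX.RgammaZ j).obj K)⟦(1 : ℤ)⟧),
      Triangle.mk ((CxOX.RgammaZToId j).app K) g δ ∈ distTriang (DCoh.D X) ∧
        IsZero ((DCoh.restrictD j).obj ((CxOX.RgammaZ j).obj K)) ∧
        Nonempty (F ≅ (DCoh.restrictD j).obj K) := by
  obtain ⟨I, hI, hinj, ⟨eK⟩⟩ := FlatBC.exists_injective_rep K
  haveI := hI
  haveI := hinj
  haveI := hasRpush_scheme j
  let W := HomotopyCategory.quasiIso X.Modules (ComplexShape.up ℤ)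
  let α := (CxOX.gammaZKh j).totalRightDerivedUnit DerivedCategory.Qh W
  haveI : IsIso (α.app ((qq X).obj I)) := isIso_rightDerivedUnit_of_kInjective (CxOX.gammaZKh j) I
  let eQ := (DerivedCategory.quotientCompQhIso X.Modules).app I
  let ΓI := ((DCoh.gammaZ j).mapHomologicalComplex (ComplexShape.up ℤ)).obj I
  let eΓ : DerivedCategory.Q.obj ΓI ≅ (CxOX.RgammaZ j).obj K :=
    ((DerivedCategory.quotientCompQhIso X.Modules).app ΓI).symm ≪≫
      DerivedCategory.Qh.mapIso (((DCoh.gammaZ j).mapHomotopyCategoryFactors (ComplexShape.up ℤ)).app I).symm ≪≫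
      asIso (α.app ((qq X).obj I)) ≪≫ (CxOX.RgammaZ j).mapIso eK
  have hfac : α.app ((qq X).obj I) ≫ (CxOX.RgammaZToId j).app (DerivedCategory.Qh.obj ((qq X).obj I)) =
      (CxOX.gammaZKhι j).app ((qq X).obj I) := by
    refine ((CxOX.RgammaZ j).rightDerived_fac_app α W (𝟭 (DCoh.D X))
      (CxOX.gammaZKhι j ≫ (Functor.rightUnitor _).inv) ((qq X).obj I)).trans ?_
    exact Category.comp_id _
  let eI : DerivedCategory.Q.obj I ≅ K := eQ.symm ≪≫ eK
  have h1 : eΓ.hom ≫ (CxOX.RgammaZToId j).app K = DerivedCategory.Q.map (ιCx j I) ≫ eI.hom := by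
    simp only [eΓ, eI, eQ, Iso.trans_hom, Iso.symm_hom, Functor.mapIso_inv, Functor.mapIso_hom, asIso_hom,
      Category.assoc, Iso.app_inv, Iso.app_hom]
    erw [(CxOX.RgammaZToId j).naturality eK.hom, reassoc_of% hfac, gammaZKhι_app, Functor.map_comp,
      Category.assoc, ← Functor.map_comp_assoc, Iso.inv_hom_id_app, CategoryTheory.Functor.map_id,
      Category.id_comp]
    exact ((DerivedCategory.quotientCompQhIso X.Modules).inv.naturality_assoc (ιCx j I) eK.hom).symm
  haveI := isKInjective_rCx j I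
  let F := (DCoh.restrictD j).obj K
  let eF : DerivedCategory.Q.obj ((rCx j).obj I) ≅ F := ((rhoQ j).app I).symm ≪≫ (DCoh.restrictD j).mapIso eI
  obtain ⟨eP⟩ := nonempty_rpush_iso_of_kInjective j eF
  have hS := shortExact j I
  let T := DerivedCategory.triangleOfSES hS
  have hT : T ∈ distTriang (DCoh.D X) := DerivedCategory.triangleOfSES_distinguished hS
  refine ⟨F, inferInstance, eI.inv ≫ DerivedCategory.Q.map (ηCx j I) ≫ eP.inv,
    eP.hom ≫ T.mor₃ ≫ eΓ.hom⟦(1 : ℤ)⟧', isomorphic_distinguished _ hT _ ?_, ?_, ⟨Iso.refl _⟩⟩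
  · refine Triangle.isoMk _ _ eΓ.symm eI.symm eP ?_ ?_ ?_
    · change (CxOX.RgammaZToId j).app K ≫ eI.inv = eΓ.inv ≫ DerivedCategory.Q.map (ιCx j I)
      rw [← cancel_epi eΓ.hom, reassoc_of% h1, Iso.hom_inv_id, Category.comp_id, Iso.hom_inv_id_assoc]
    · change (eI.inv ≫ DerivedCategory.Q.map (ηCx j I) ≫ eP.inv) ≫ eP.hom =
        eI.inv ≫ DerivedCategory.Q.map (ηCx j I)
      simp
    · change (eP.hom ≫ T.mor₃ ≫ eΓ.hom⟦(1 : ℤ)⟧') ≫ eΓ.inv⟦(1 : ℤ)⟧' = eP.hom ≫ T.mor₃
      rw [Category.assoc, Category.assoc, ← CategoryTheory.Functor.map_comp, Iso.hom_inv_id,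
        CategoryTheory.Functor.map_id]
      erw [Category.comp_id]
  · refine IsZero.of_iso ?_ ((DCoh.restrictD j).mapIso eΓ.symm ≪≫ (rhoQ j).app ΓI)
    refine Functor.map_isZero DerivedCategory.Q ?_
    rw [IsZero.iff_id_eq_zero]
    exact HomologicalComplex.hom_ext _ _ fun n => (isZero_restrict_gammaZ j (I.X n)).eq_of_src _ _

theorem isZero_restrictD_RgammaZ (K : DCoh.D X) :
    IsZero ((DCoh.restrictD j).obj ((CxOX.RgammaZ j).obj K)) := by
  obtain ⟨_, _, _, _, -, h, -⟩ := exists_triangle j K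
  exact h

/-- `RΓ_Z K → K` is universal among maps from supported objects. -/
theorem bijective_toId {A : DCoh.D X} (hA : IsZero ((DCoh.restrictD j).obj A)) (K : DCoh.D X) :
    Function.Bijective fun g : A ⟶ (CxOX.RgammaZ j).obj K => g ≫ (CxOX.RgammaZToId j).app K := by
  obtain ⟨F, _, g, δ, hT, -, -⟩ := exists_triangle j K
  exact bijective_of_triangle j _ hT (isOrth_rpush j F) hA

/-- `RΓ_Z` kills the orthogonal objects. -/
theorem isZero_RgammaZ_of_isOrth {K : DCoh.D X} (hK : IsOrth j K) : IsZero ((CxOX.RgammaZ j).obj K) := by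
  rw [IsZero.iff_id_eq_zero]
  refine (bijective_toId j (isZero_restrictD_RgammaZ j K) K).1 ?_
  change 𝟙 _ ≫ _ = 0 ≫ _
  rw [Category.id_comp, zero_comp]
  exact hK _ (isZero_restrictD_RgammaZ j K) _

end Gamma

end Groth.Agent.CxSuppLib
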