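import Groth.Agent.CxSuppLib.Basic
import Groth.Agent.KFlatLib.Scheme.LpullComp
import Groth.Agent.KFlatLib.Scheme.TriNatTrans

/-!
# Supports under restriction, pushforward and pullback
-/

set_option autoImplicit false
set_option linter.style.haveILetI false
set_option linter.unusedSectionVars false
set_option backward.isDefEq.respectTransparency false
set_option backward.isDefEq.respectTransparency.types false

universe u

open CategoryTheory CategoryTheory.Limits AlgebraicGeometry TopologicalSpace Opposite Pretriangulated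

attribute [local instance] HasDerivedCategory.standard

noncomputable section

namespace Groth.Agent.CxSuppLib

open KFlatLib

variable {U V X : Scheme.{u}} (j : U ⟶ X) [IsOpenImmersion j] (k : V ⟶ X) [IsOpenImmersion k]

/-- The support of the cohomology of a restriction. -/
theorem support_restrictD_subset (K : DCoh.D X) (i : ℤ) :
    CohB1.support (DCoh.HD ((DCoh.restrictD j).obj K) i) ⊆ j.base ⁻¹' CohB1.support (DCoh.HD K i) := by
  intro u hu hs
  obtain ⟨e⟩ := nonempty_hd_rho j K i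
  exact hu ((((DerSch.stalkFunctor U u).mapIso e).toLinearEquiv.toEquiv.subsingleton_congr).2
    (((Scheme.Modules.restrictStalkNatIso j u).app _).addCommGroupIsoToAddEquiv.toEquiv.subsingleton_congr.2 hs))

/-- An object vanishing on a larger open vanishes on a smaller one. -/
theorem isZero_restrictD_mono (h : Set.range j.base ⊆ Set.range k.base) {K : DCoh.D X}
    (hK : IsZero ((DCoh.restrictD k).obj K)) : IsZero ((DCoh.restrictD j).obj K) :=
  (isSuppD_iff j K).1 fun i => ((isSuppD_iff k K).2 hK i).trans (Set.compl_subset_compl.2 h)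

/-- Vanishing of a restriction of a restriction. -/
theorem isZero_restrictD_restrictD {W : Scheme.{u}} (i : W ⟶ U) [IsOpenImmersion i]
    (h : j.base '' Set.range i.base ⊆ Set.range k.base) {K : DCoh.D X}
    (hK : IsZero ((DCoh.restrictD k).obj K)) : IsZero ((DCoh.restrictD i).obj ((DCoh.restrictD j).obj K)) :=
  (isSuppD_iff i _).1 fun n u hu hr =>
    (isSuppD_iff k K).2 hK n (support_restrictD_subset j K n hu) (h ⟨u, hr, rfl⟩)

theorem IsOrth.mono (h : Set.range j.base ⊆ Set.range k.base) {P : DCoh.D X} (hP : IsOrth j P) : IsOrth k P :=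
  fun A hA f => hP A (isZero_restrictD_mono j k h hA) f

theorem IsOrth.shift {P : DCoh.D X} (hP : IsOrth j P) (n : ℤ) : IsOrth j (P⟦n⟧) := fun A hA f => by
  refine (shiftFunctor (DCoh.D X) (-n)).map_injective ?_
  rw [Functor.map_zero, ← cancel_mono ((shiftFunctorCompIsoId _ n (-n) (by omega)).hom.app P), zero_comp]
  exact hP _ (isZero_restrictD_shift j hA (-n)) _

/-- A supported cone between orthogonal objects vanishes. -/
theorem isZero_obj₃_of_isOrth (T : Triangle (DCoh.D X)) (hT : T ∈ distTriang _) (h₁ : IsOrth j T.obj₁)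
    (h₂ : IsOrth j T.obj₂) (h₃ : IsZero ((DCoh.restrictD j).obj T.obj₃)) : IsZero T.obj₃ := by
  rw [IsZero.iff_id_eq_zero]
  obtain ⟨s, hs⟩ := Triangle.coyoneda_exact₃ T hT (𝟙 T.obj₃)
    ((Category.id_comp _).trans ((h₁.shift j 1) _ h₃ T.mor₃))
  exact hs.trans (by rw [h₂ _ h₃ s, zero_comp])

/-- An object killed by `RΓ_Z` is orthogonal. -/
theorem isOrth_of_isZero_RgammaZ [CxOX.HasRgammaZ j] {K : DCoh.D X}
    (hK : IsZero ((CxOX.RgammaZ j).obj K)) : IsOrth j K := fun A hA f => by
  obtain ⟨g, hg⟩ := (bijective_toId j hA K).2 f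
  rw [← hg, hK.eq_of_tgt g 0]
  exact zero_comp

/-- The restriction of a map to an open is invertible iff the cone vanishes there. -/
theorem isZero_restrictD_cone_iff (T : Triangle (DCoh.D X)) (hT : T ∈ distTriang _) :
    IsZero ((DCoh.restrictD j).obj T.obj₃) ↔ IsIso ((DCoh.restrictD j).map T.mor₁) :=
  Triangle.isZero₃_iff_isIso₁ _ ((DCoh.restrictD j).map_distinguished T hT)

/-- The unit is invertible on the open. -/
theorem isIso_restrictD_unit [DCoh.HasRpush j] (adj : DCoh.restrictD j ⊣ DCoh.Rpush j) (K : DCoh.D X) :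
    IsIso ((DCoh.restrictD j).map (adj.unit.app K)) := by
  haveI := isIso_restrictD_counit j adj
  haveI : IsIso ((DCoh.restrictD j).map (adj.unit.app K) ≫
      adj.counit.app ((DCoh.restrictD j).obj K)) := by
    rw [adj.left_triangle_components K]
    exact (Iso.refl _).isIso_hom
  exact IsIso.of_isIso_comp_right _ (adj.counit.app ((DCoh.restrictD j).obj K))

variable {Y : Scheme.{u}} (f : X ⟶ Y)

/-- `Rf_*` preserves vanishing on opens. -/
theorem isZero_restrictD_rpush [DCoh.HasRpush f] (O : Y.Opens) (K : DCoh.D X)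
    (h : IsZero ((DCoh.restrictD (f ⁻¹ᵁ O).ι).obj K)) :
    IsZero ((DCoh.restrictD O.ι).obj ((DCoh.Rpush f).obj K)) := by
  haveI := hasRpush_scheme (f ∣_ O)
  obtain ⟨e⟩ := nonempty_rpush_restrictD_iso f O
  exact ((TriNat.presTri_rpush (f ∣_ O)).isZero_obj h).of_iso (e.app K)

theorem nonempty_lpull_iso_of_eq {A B : Scheme.{u}} {a b : A ⟶ B} (h : a = b)
    [DCoh.HasLpull a] [DCoh.HasLpull b] : Nonempty (DCoh.Lpull a ≅ DCoh.Lpull b) := by
  subst h
  exact ⟨Iso.refl _⟩

/-- `Lf^*` preserves vanishing on opens. -/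
theorem isZero_restrictD_lpull [DCoh.HasLpull f] (O : Y.Opens) (K : DCoh.D Y)
    (h : IsZero ((DCoh.restrictD O.ι).obj K)) :
    IsZero ((DCoh.restrictD (f ⁻¹ᵁ O).ι).obj ((DCoh.Lpull f).obj K)) := by
  haveI := hasLpull (f ⁻¹ᵁ O).ι
  haveI := hasLpull O.ι
  haveI := hasLpull (f ∣_ O)
  haveI := hasLpull ((f ⁻¹ᵁ O).ι ≫ f)
  haveI := hasLpull (f ∣_ O ≫ O.ι)
  obtain ⟨e₁⟩ := nonempty_rho_iso_lpull (f ⁻¹ᵁ O).ι
  obtain ⟨e₂⟩ := nonempty_rho_iso_lpull O.ι
  obtain ⟨c₁⟩ := nonempty_lpull_comp (f ⁻¹ᵁ O).ι f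
  obtain ⟨c₂⟩ := nonempty_lpull_comp (f ∣_ O) O.ι
  obtain ⟨c₃⟩ := nonempty_lpull_iso_of_eq (morphismRestrict_ι f O).symm
  exact ((TriNat.presTri_lpull (f ∣_ O)).isZero_obj (h.of_iso (e₂.app K).symm)).of_iso
    (e₁.app _ ≪≫ c₁.app K ≪≫ c₃.app K ≪≫ (c₂.app K).symm)

end Groth.Agent.CxSuppLib
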