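import Groth.Agent.CxSuppLib.GammaFlasque
import Groth.Agent.SiteBase.RpushD.Single
import Groth.Agent.RelPC17.Bounded
import Groth.Agent.LocCohDepth.Main
import Groth.Agent.LocCohDepth.Compare
import Groth.Agent.GrLib8.SuppFlasque
import Groth.Agent.FlatLoc6.NormFlat
import Groth.Agent.QCoh.LocFree
import Groth.Agent.Lib.CurveDeg
import Groth.Agent.CxSuppLib.Support
import Groth.Agent.H28.PushLocFree

/-!
# Local cohomology of complexes of locally free modules in low degrees
-/

set_option autoImplicit false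
set_option linter.style.haveILetI false
set_option linter.unusedSectionVars false
set_option backward.isDefEq.respectTransparency false
set_option backward.isDefEq.respectTransparency.types false

universe u

open CategoryTheory CategoryTheory.Limits AlgebraicGeometry TopologicalSpace Opposite Pretriangulated

attribute [local instance] HasDerivedCategory.standard

noncomputable section

namespace Groth.Agent.CxSuppLib

open KFlatLib SiteBase.RpushD

variable {U X : Scheme.{u}}

/-- Right derived functors of additive functors exist. -/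
theorem hasRD {B : Type (u + 1)} [Category.{u} B] [Abelian B] (G : X.Modules ⥤ B) [G.Additive] :
    (G.mapHomotopyCategory (ComplexShape.up ℤ) ⋙ DerivedCategory.Qh).HasRightDerivedFunctor
      (HomotopyCategory.quasiIso X.Modules (ComplexShape.up ℤ)) := by
  haveI := TriCat.qh_isLeftAdjoint_of_exists_resolution (A := X.Modules) exists_kInjective_res
  let adjQ := Adjunction.ofIsLeftAdjoint (DerivedCategory.Qh (C := X.Modules))
  let W := HomotopyCategory.quasiIso X.Modules (ComplexShape.up ℤ)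
  have hd := TriCat.isRightDerivedFunctor_of_adjunction adjQ W
    (G.mapHomotopyCategory (ComplexShape.up ℤ) ⋙ DerivedCategory.Qh)
  exact Functor.HasRightDerivedFunctor.mk' (L := DerivedCategory.Qh)
    ((DerivedCategory.Qh (C := X.Modules)).rightAdjoint ⋙
      G.mapHomotopyCategory (ComplexShape.up ℤ) ⋙ DerivedCategory.Qh)
    (Functor.whiskerRight adjQ.unit (G.mapHomotopyCategory (ComplexShape.up ℤ) ⋙ DerivedCategory.Qh))

variable (j : U ⟶ X) [IsOpenImmersion j]

theorem comp_unit_eq_zero {A M : X.Modules} (hA : IsZero ((Scheme.Modules.restrictFunctor j).obj A))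
    (t : A ⟶ M) : t ≫ (Scheme.Modules.restrictAdjunction j).unit.app M = 0 := by
  rw [← cancel_epi (𝟙 A), comp_zero]
  refine ((Scheme.Modules.restrictAdjunction j).homEquiv _ _).symm.injective ?_
  exact hA.eq_of_src _ _

/-- Sections with support only depend on the range. -/
theorem nonempty_gammaZ_iso (M : X.Modules) :
    Nonempty ((DCoh.gammaZ j).obj M ≅ (DCoh.gammaZ j.opensRange.ι).obj M) := by
  have hr : Set.range j.opensRange.ι.base = Set.range j.base := by
    rw [Scheme.Opens.range_ι]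
    rfl
  have h1 : IsZero ((Scheme.Modules.restrictFunctor j.opensRange.ι).obj ((DCoh.gammaZ j).obj M)) :=
    (isZero_restrict_iff _ _).2 (hr ▸ (isZero_restrict_iff j _).1 (isZero_restrict_gammaZ j M))
  have h2 : IsZero ((Scheme.Modules.restrictFunctor j).obj ((DCoh.gammaZ j.opensRange.ι).obj M)) :=
    (isZero_restrict_iff _ _).2 (hr ▸ (isZero_restrict_iff _ _).1 (isZero_restrict_gammaZ j.opensRange.ι M))
  let ιj := kernel.ι ((Scheme.Modules.restrictAdjunction j).unit.app M)
  let ιO := kernel.ι ((Scheme.Modules.restrictAdjunction j.opensRange.ι).unit.app M)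
  exact ⟨{ hom := kernel.lift _ ιj (comp_unit_eq_zero j.opensRange.ι h1 ιj)
           inv := kernel.lift _ ιO (comp_unit_eq_zero j h2 ιO)
           hom_inv_id := (cancel_mono ιj).1 (by
             rw [Category.assoc, kernel.lift_ι, kernel.lift_ι]; exact (Category.id_comp _).symm)
           inv_hom_id := (cancel_mono ιO).1 (by
             rw [Category.assoc, kernel.lift_ι, kernel.lift_ι]; exact (Category.id_comp _).symm) }⟩

/-- Sections with support of injective modules are flasque. -/
theorem isFlasqueMod_gammaZ (I : X.Modules) [Injective I] : QCoh.IsFlasqueMod ((DCoh.gammaZ j).obj I) := by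
  obtain ⟨e⟩ := nonempty_gammaZ_iso j I
  refine isFlasqueMod_of_iso e.symm ?_
  obtain ⟨e'⟩ := LocCohDepth.nonempty_gammaZ_toAb_iso j.opensRange
  haveI : TopCat.Sheaf.IsFlasque (X := X.toPresheafedSpace.carrier) (QCoh.abSheaf I) :=
    QCoh.isFlasqueMod_of_injective I
  have h := GrLib8.SuppFlasque.isFlasque_sectSupp (X := X.toPresheafedSpace.carrier) (QCoh.abSheaf I) j.opensRange
  refine ⟨fun {V W} i => (AddCommGrpCat.epi_iff_surjective _).2 fun t => ?_⟩
  let E := e'.app I
  obtain ⟨s, hs⟩ := (AddCommGrpCat.epi_iff_surjective _).1 (h.epi i) ((E.hom.hom.app _).hom t)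
  refine ⟨(E.inv.hom.app _).hom s, ?_⟩
  refine (ConcreteCategory.congr_hom (E.inv.hom.naturality i) s).symm.trans ?_
  refine (congrArg (E.inv.hom.app W).hom hs).trans ?_
  exact ConcreteCategory.congr_hom (congrArg (fun φ => φ.hom.app W) E.hom_inv_id) t

/-- Low degrees of the derived functor of a complex whose terms have no low derived values. -/
theorem isZero_homology_RD {B : Type (u + 1)} [Category.{u} B] [Abelian B] (G : X.Modules ⥤ B) [G.Additive]
    [(G.mapHomotopyCategory (ComplexShape.up ℤ) ⋙ DerivedCategory.Qh).HasRightDerivedFunctor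
      (HomotopyCategory.quasiIso X.Modules (ComplexShape.up ℤ))]
    [HasInjectiveResolutions X.Modules] (d : ℕ) (K : CochainComplex X.Modules ℤ)
    (hK : ∀ i : ℤ, i < (d : ℤ) → IsZero (K.X i))
    (hG : ∀ i : ℤ, ∀ q : ℕ, q < d → IsZero ((G.rightDerived q).obj (K.X i)))
    (n : ℤ) (hn : n < 2 * (d : ℤ)) :
    IsZero ((DerivedCategory.homologyFunctor B n).obj ((RD G).obj (DerivedCategory.Q.obj K))) := by
  let P : ObjectProperty (DerivedCategory X.Modules) := fun E =>
    IsZero ((DerivedCategory.homologyFunctor B n).obj ((RD G).obj E))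
  haveI : P.IsClosedUnderIsomorphisms :=
    ⟨fun e h => h.of_iso ((DerivedCategory.homologyFunctor B n).mapIso ((RD G).mapIso e.symm))⟩
  have hP : ∀ T ∈ distTriang (DerivedCategory X.Modules), P T.obj₁ → P T.obj₃ → P T.obj₂ := fun T hT h₁ h₃ => by
    obtain ⟨c, hc⟩ := SiteBase.RpushD.exists_triangle G T hT
    exact (DerivedCategory.HomologySequence.exact₂ _ hc n).isZero_of_both_zeros
      (h₁.eq_of_src _ _) (h₃.eq_of_tgt _ _)
  have hge : ∀ (E : DerivedCategory X.Modules) (m : ℤ), E.IsGE m → n < m → P E := fun E m hE hm => by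
    haveI := hE
    haveI := isGE_RD G E m
    exact DerivedCategory.isZero_of_isGE _ m n hm
  have h0 : ∀ Y, IsZero Y → P Y := fun Y hY => hge Y (n + 1)
    ((DerivedCategory.isGE_iff _ _).2 fun i _ => Functor.map_isZero _ hY) (by omega)
  obtain ⟨K', g, δ, hT, hK', hiso⟩ := RelPC17.exists_triangle_stupid K (2 * (d : ℤ))
  refine hP _ hT (hge _ (2 * (d : ℤ)) ?_ hn) (RelPC17.prop_of_terms P hP h0 d K' d ?_ ?_)
  · haveI : (stupidGE K (2 * (d : ℤ))).IsStrictlyGE (2 * (d : ℤ)) :=
      (CochainComplex.isStrictlyGE_iff _ _).2 fun i hi => isZero_stupidGE K _ hi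
    exact inferInstanceAs (DerivedCategory.IsGE (DerivedCategory.Q.obj (stupidGE K (2 * (d : ℤ)))) (2 * (d : ℤ)))
  · intro i hi
    rcases hi with hi | hi
    · obtain ⟨e⟩ := hiso i (by omega)
      exact (hK i hi).of_iso e
    · exact hK' i (by omega)
  · intro i hid hi
    obtain ⟨e⟩ := hiso i (by omega)
    let E := (DerivedCategory.singleFunctor X.Modules 0).obj (K.X i)
    have he : Nonempty (DerivedCategory.Q.obj ((HomologicalComplex.single X.Modules (ComplexShape.up ℤ) i).obj (K'.X i))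
        ≅ E⟦-i⟧) :=
      ⟨DerivedCategory.Q.mapIso ((HomologicalComplex.single X.Modules (ComplexShape.up ℤ) i).mapIso e) ≪≫
        ((DerivedCategory.singleFunctorIsoCompQ X.Modules i).app (K.X i)).symm ≪≫
        (((DerivedCategory.singleFunctors X.Modules).shiftIso (-i) i 0 (by omega)).app (K.X i)).symm⟩
    obtain ⟨he⟩ := he
    refine P.prop_of_iso he.symm ?_
    obtain ⟨es⟩ := nonempty_RD_shift G E (-i)
    refine IsZero.of_iso ?_ ((DerivedCategory.homologyFunctor B n).mapIso es ≪≫
      ((DerivedCategory.homologyFunctor B 0).shiftIso (-i) n (n - i) (by omega)).app _)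
    change IsZero ((DerivedCategory.homologyFunctor B (n - i)).obj ((RD G).obj E))
    by_cases hq : n - i < 0
    · haveI := isGE_RD G E 0
      exact DerivedCategory.isZero_of_isGE _ 0 (n - i) hq
    · obtain ⟨q, hq'⟩ : ∃ q : ℕ, n - i = q := ⟨(n - i).toNat, (Int.toNat_of_nonneg (by omega)).symm⟩
      obtain ⟨eq⟩ := nonempty_homology_RD_single G (K.X i) q
      rw [hq']
      exact (hG i q (by omega)).of_iso eq

/-- Depth of the stalks of a finite locally free module. -/
theorem depth_stalk_of_isFinLocFree [IsLocallyNoetherian X] {M : X.Modules} (hM : FlatMod.IsFinLocFree M)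
    (x : X) (d : ℕ) (hd : (d : ℕ∞) ≤ LocCoh.depth (X.presheaf.stalk x) (X.presheaf.stalk x)) :
    (d : ℕ∞) ≤ LocCoh.depth (X.presheaf.stalk x) (M.presheaf.stalk x) := by
  haveI := QCoh.free_stalk_of_isFinLocFree hM x
  haveI := QCoh.finite_stalk_of_isFT (QCoh.isQCoh_of_isFinLocFree hM)
    (QCoh.isFT_of_isFP (QCoh.isFP_of_isFinLocFree hM)) x
  obtain ⟨n, ⟨b⟩⟩ : ∃ n, Nonempty (Module.Basis (Fin n) (X.presheaf.stalk x) (M.presheaf.stalk x)) :=
    ⟨_, ⟨Module.finBasis _ _⟩⟩
  rw [Hensel.depth_congr b.equivFun]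
  cases n with
  | zero =>
    rw [show LocCoh.depth (X.presheaf.stalk x) (Fin 0 → X.presheaf.stalk x) = ⊤ from ?_]
    · exact le_top
    · rw [LocCoh.depth, LocCoh.idealDepth, if_pos (Subsingleton.elim _ _)]
  | succ k => rwa [FlatLoc6.depth_pi]

/-- Local cohomology sheaves of a locally free module below the depth of the structure sheaf. -/
theorem isZero_gammaZ_rightDerived [IsLocallyNoetherian X] [HasInjectiveResolutions X.Modules] (O : X.Opens)
    (d : ℕ) (hdepth : ∀ y : X, y ∉ (O : Set X) →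
      (d : ℕ∞) ≤ LocCoh.depth (X.presheaf.stalk y) (X.presheaf.stalk y))
    (M : X.Modules) (hM : FlatMod.IsFinLocFree M) (q : ℕ) (hq : q < d) :
    IsZero (((DCoh.gammaZ O.ι).rightDerived q).obj M) :=
  LocCohDepth.isZero_HZshM_of O q M
    ((LocCohDepth.HZsh_isZero_iff_depth O (H28.PushLocFree.isCoh_of_isFinLocFree hM) d).2
      (fun x hx => depth_stalk_of_isFinLocFree hM x d (hdepth x hx)) q hq)

section Cohomology

variable [CxOX.HasRgammaZ j]

/-- `RΓ_Z` only depends on the range. -/
theorem nonempty_RgammaZ_iso [CxOX.HasRgammaZ j.opensRange.ι] (K : DCoh.D X) :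
    Nonempty ((CxOX.RgammaZ j).obj K ≅ (CxOX.RgammaZ j.opensRange.ι).obj K) := by
  have hr : Set.range j.opensRange.ι.base = Set.range j.base := by
    rw [Scheme.Opens.range_ι]
    rfl
  have h1 := isZero_restrictD_mono j.opensRange.ι j hr.le (isZero_restrictD_RgammaZ j K)
  have hb : ∀ C, IsZero ((DCoh.restrictD j.opensRange.ι).obj C) →
      Function.Bijective fun g : C ⟶ (CxOX.RgammaZ j).obj K => g ≫ (CxOX.RgammaZToId j).app K :=
    fun C hC => bijective_toId j (isZero_restrictD_mono j j.opensRange.ι hr.ge hC) K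
  obtain ⟨φ, hφ⟩ := (bijective_toId j.opensRange.ι h1 K).2 ((CxOX.RgammaZToId j).app K)
  haveI := isIso_of_bijective j.opensRange.ι _ _ h1 (isZero_restrictD_RgammaZ j.opensRange.ι K)
    hb (fun C hC => bijective_toId j.opensRange.ι hC K) φ hφ
  exact ⟨asIso φ⟩

/-- The cohomology sheaves of `RΓ_Z` below twice the depth. -/
theorem isZero_hd_RgammaZ [IsLocallyNoetherian X] (d : ℕ)
    (hdepth : ∀ y : X, y ∉ Set.range j.base →
      (d : ℕ∞) ≤ LocCoh.depth (X.presheaf.stalk y) (X.presheaf.stalk y))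
    (K : CochainComplex X.Modules ℤ) (hK : ∀ i : ℤ, i < (d : ℤ) → IsZero (K.X i))
    (hKlf : ∀ i : ℤ, FlatMod.IsFinLocFree (K.X i)) (n : ℤ) (hn : n < 2 * (d : ℤ)) :
    IsZero (DCoh.HD ((CxOX.RgammaZ j).obj (DCoh.toD X K)) n) := by
  haveI : CxOX.HasRgammaZ j.opensRange.ι := hasRD _
  obtain ⟨e⟩ := nonempty_RgammaZ_iso j (DCoh.toD X K)
  refine IsZero.of_iso ?_ ((DerivedCategory.homologyFunctor X.Modules n).mapIso e)
  exact isZero_homology_RD (DCoh.gammaZ j.opensRange.ι) d K hK
    (fun i q hq => isZero_gammaZ_rightDerived j.opensRange d (fun y hy => hdepth y hy) _ (hKlf i) q hq) n hn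

/-- Sections of the lowest local cohomology sheaf and vanishing below. -/
theorem nonempty_homology_RsectZ_iso [IsLocallyNoetherian X] [CxOX.HasRsectZ j] (d : ℕ)
    (hdepth : ∀ y : X, y ∉ Set.range j.base →
      (d : ℕ∞) ≤ LocCoh.depth (X.presheaf.stalk y) (X.presheaf.stalk y))
    (K : CochainComplex X.Modules ℤ) (hK : ∀ i : ℤ, i < (d : ℤ) → IsZero (K.X i))
    (hKlf : ∀ i : ℤ, FlatMod.IsFinLocFree (K.X i)) (n : ℤ) (hn : n ≤ 2 * (d : ℤ)) :
    Nonempty ((DerivedCategory.homologyFunctor AddCommGrpCat.{u} n).obj ((CxOX.RsectZ j).obj (DCoh.toD X K)) ≅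
      (DCoh.gammaAb X).obj (DCoh.HD ((CxOX.RgammaZ j).obj (DCoh.toD X K)) n)) := by
  haveI : K.IsStrictlyGE (d : ℤ) := (CochainComplex.isStrictlyGE_iff _ _).2 hK
  obtain ⟨I, f, hf, hI, hIn⟩ := CochainComplex.Plus.modelCategoryQuillen.exists_quasiIso_injective (K := K) (d : ℤ)
  haveI : I.IsKInjective := CochainComplex.isKInjective_of_injective I (d : ℤ)
  let J : CochainComplex X.Modules ℤ := ((DCoh.gammaZ j).mapHomologicalComplex (ComplexShape.up ℤ)).obj I
  haveI : J.IsStrictlyGE (d : ℤ) := (CochainComplex.isStrictlyGE_iff _ _).2 fun i hi =>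
    (DCoh.gammaZ j).map_isZero (I.isZero_of_isStrictlyGE (d : ℤ) i hi)
  haveI := hf
  let eK : DCoh.toD X K ≅ DerivedCategory.Q.obj I := asIso (DerivedCategory.Q.map f)
  obtain ⟨e₁⟩ := nonempty_RD_Q_iso (DCoh.gammaZ j) I
  let eH : ∀ i : ℤ, DCoh.HD ((CxOX.RgammaZ j).obj (DCoh.toD X K)) i ≅ J.homology i := fun i =>
    (DerivedCategory.homologyFunctor X.Modules i).mapIso ((CxOX.RgammaZ j).mapIso eK ≪≫ e₁) ≪≫
      (DerivedCategory.homologyFunctorFactors X.Modules i).app J
  obtain ⟨e₂⟩ := nonempty_RD_Q_iso (CxOX.sectZAb j) I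
  obtain ⟨e₃⟩ := nonempty_homology_gamma_iso J (d : ℤ) (2 * (d : ℤ))
    (fun i => haveI : Injective (I.X i) := hI i; isFlasqueMod_gammaZ j (I.X i))
    (fun i hi => (isZero_hd_RgammaZ j d hdepth K hK hKlf i hi).of_iso (eH i).symm) n hn
  let eC : ((CxOX.sectZAb j).mapHomologicalComplex (ComplexShape.up ℤ)).obj I ≅
      ((DCoh.gammaAb X).mapHomologicalComplex (ComplexShape.up ℤ)).obj J :=
    HomologicalComplex.Hom.isoOfComponents (fun i => Iso.refl _) (fun _ _ _ => by
      simp only [Iso.refl_hom, Category.comp_id, Category.id_comp]; rfl)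
  exact ⟨(DerivedCategory.homologyFunctor AddCommGrpCat.{u} n).mapIso ((CxOX.RsectZ j).mapIso eK ≪≫ e₂) ≪≫
    (DerivedCategory.homologyFunctorFactors AddCommGrpCat.{u} n).app _ ≪≫
    (HomologicalComplex.homologyFunctor _ _ n).mapIso eC ≪≫ e₃ ≪≫ (DCoh.gammaAb X).mapIso (eH n).symm⟩

end Cohomology

end Groth.Agent.CxSuppLib
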