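import Groth.Agent.CxSuppLib.Basic
import Groth.Agent.QCoh.RpushGod

/-!
# Global sections of complexes of flasque modules which are exact in low degrees
-/

set_option autoImplicit false
set_option linter.style.haveILetI false
set_option linter.unusedSectionVars false
set_option backward.isDefEq.respectTransparency false
set_option backward.isDefEq.respectTransparency.types false

universe u

open CategoryTheory CategoryTheory.Limits AlgebraicGeometry TopologicalSpace Opposite

noncomputable section

namespace Groth.Agent.CxSuppLib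

variable {X : Scheme.{u}}

theorem preservesFiniteLimits_gammaAb : PreservesFiniteLimits (DCoh.gammaAb X) := by
  unfold DCoh.gammaAb
  haveI : PreservesFiniteLimits ((evaluation (Opens X)ᵒᵖ Ab.{u}).obj (op ⊤)) := ⟨fun _ _ _ => inferInstance⟩
  exact comp_preservesFiniteLimits _ _

/-- Being flasque is invariant under isomorphisms. -/
theorem isFlasqueMod_of_iso {M N : X.Modules} (e : M ≅ N) (h : QCoh.IsFlasqueMod M) : QCoh.IsFlasqueMod N where
  epi {U V} i := by
    refine (AddCommGrpCat.epi_iff_surjective _).2 fun t => ?_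
    obtain ⟨s, hs⟩ := (AddCommGrpCat.epi_iff_surjective _).1 (h.epi i) (e.inv.app V.unop t)
    refine ⟨e.hom.app U.unop s, ?_⟩
    show QCoh.rs N i.unop.le (e.hom.app U.unop s) = t
    rw [← QCoh.app_rs]
    refine (congrArg (e.hom.app V.unop) hs).trans ?_
    exact congr(($(e.inv_hom_id)).app V.unop t)

/-- The zero module is flasque. -/
theorem isFlasqueMod_of_isZero {M : X.Modules} (h : IsZero M) : QCoh.IsFlasqueMod M :=
  haveI : Injective M := ⟨fun _ _ _ => ⟨0, h.eq_of_tgt _ _⟩⟩
  QCoh.isFlasqueMod_of_injective M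

/-- Sections surject in a short exact sequence with flasque first term. -/
theorem gamma_surjective {S : ShortComplex X.Modules} (hS : S.ShortExact) (h₁ : QCoh.IsFlasqueMod S.X₁) :
    Epi ((DCoh.gammaAb X).map S.g) := by
  refine (AddCommGrpCat.epi_iff_surjective _).2 fun t => ?_
  obtain ⟨b, hb⟩ := SiteBase.surjective_sections_of_HU_one (QCoh.toAb_shortExact hS) ⊤
    (haveI := h₁; SiteBase.subsingleton_HU_of_isFlasque (X := X.toPresheafedSpace.carrier)
      (QCoh.abSheaf S.X₁) ⊤ 0) t
  exact ⟨b, hb⟩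

theorem shortExact_factorThruImage {A Z : X.Modules} (g : A ⟶ Z) :
    (ShortComplex.mk (kernel.ι (Abelian.factorThruImage g)) (Abelian.factorThruImage g)
      (kernel.condition _)).ShortExact where
  exact := ShortComplex.exact_of_f_is_kernel _ (kernelIsKernel _)
  mono_f := inferInstanceAs (Mono (kernel.ι _))
  epi_g := inferInstanceAs (Epi (Abelian.factorThruImage g))

/-- The kernel of `g` is the kernel of its corestriction. -/
def kernelFactorThruIso {A Z : X.Modules} (g : A ⟶ Z) : kernel (Abelian.factorThruImage g) ≅ kernel g :=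
  (kernelCompMono (Abelian.factorThruImage g) (Abelian.image.ι g)).symm ≪≫ kernelIsoOfEq (Abelian.image.fac g)

/-- Sections of the cokernel of a map with flasque source and kernel. -/
theorem gamma_cokernel {A Z H : X.Modules} (g : A ⟶ Z) (π : Z ⟶ H) (w : g ≫ π = 0) [Epi π]
    (hex : (ShortComplex.mk g π w).Exact) (hA : QCoh.IsFlasqueMod A) (hK : QCoh.IsFlasqueMod (kernel g)) :
    ((ShortComplex.mk g π w).map (DCoh.gammaAb X)).Exact ∧ Epi ((DCoh.gammaAb X).map π) ∧
      QCoh.IsFlasqueMod (Abelian.image g) := by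
  haveI := preservesFiniteLimits_gammaAb (X := X)
  have hS := shortExact_factorThruImage g
  have hK' := isFlasqueMod_of_iso (kernelFactorThruIso g).symm hK
  have he := gamma_surjective hS hK'
  have hI : QCoh.IsFlasqueMod (Abelian.image g) := QCoh.isFlasqueMod_X₃ hS hK' hA
  have w' : Abelian.image.ι g ≫ π = 0 := by
    rw [← cancel_epi (Abelian.factorThruImage g), ← Category.assoc, Abelian.image.fac, w, comp_zero]
  have hT : (ShortComplex.mk (Abelian.image.ι g) π w').ShortExact :=
    { exact := (ShortComplex.exact_iff_of_epi_of_isIso_of_mono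
        (φ := ({ τ₁ := Abelian.factorThruImage g, τ₂ := 𝟙 Z, τ₃ := 𝟙 H } :
          ShortComplex.mk g π w ⟶ ShortComplex.mk (Abelian.image.ι g) π w'))).1 hex
      mono_f := inferInstanceAs (Mono (Abelian.image.ι g))
      epi_g := inferInstanceAs (Epi π) }
  refine ⟨?_, gamma_surjective hT hI, hI⟩
  have hT' := hT.exact.map_of_mono_of_preservesKernel (DCoh.gammaAb X) hT.mono_f inferInstance
  exact (ShortComplex.exact_iff_of_epi_of_isIso_of_mono
      (φ := ({ τ₁ := (DCoh.gammaAb X).map (Abelian.factorThruImage g), τ₂ := 𝟙 _, τ₃ := 𝟙 _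
               comm₁₂ := by
                 change _ ≫ (DCoh.gammaAb X).map (Abelian.image.ι g) = (DCoh.gammaAb X).map g ≫ 𝟙 _
                 rw [← Functor.map_comp, Abelian.image.fac, Category.comp_id] } :
        (ShortComplex.mk g π w).map (DCoh.gammaAb X) ⟶
          (ShortComplex.mk (Abelian.image.ι g) π w').map (DCoh.gammaAb X)))).2 hT'

/-- A cokernel of a map is a cokernel of an equal map. -/
def isColimitOfEq {C : Type*} [Category C] [HasZeroMorphisms C] {A B H : C} {f f' : A ⟶ B} (h : f = f')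
    {π : B ⟶ H} (w' : f' ≫ π = 0) {w : f ≫ π = 0} (c : IsColimit (CokernelCofork.ofπ π w)) :
    IsColimit (CokernelCofork.ofπ π w') := by
  subst h
  exact c

variable (J : CochainComplex X.Modules ℤ)

/-- The kernel of `toCycles` is the previous cycles. -/
def kernelToCyclesIso (i : ℤ) : kernel (J.toCycles i (i + 1)) ≅ J.cycles i :=
  (kernelCompMono (J.toCycles i (i + 1)) (J.iCycles (i + 1))).symm ≪≫
    kernelIsoOfEq (J.toCycles_i i (i + 1)) ≪≫
    IsLimit.conePointUniqueUpToIso (kernelIsKernel _) (J.cyclesIsKernel i (i + 1) (by simp))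

theorem exact_toCycles (i : ℤ) :
    (ShortComplex.mk (J.toCycles i (i + 1)) (J.homologyπ (i + 1))
      (J.toCycles_comp_homologyπ i (i + 1))).Exact :=
  ShortComplex.exact_of_g_is_cokernel _ (J.homologyIsCokernel i (i + 1) (by simp))

/-- Cycles of a complex of flasque modules exact below `N` are flasque below `N`. -/
theorem isFlasqueMod_cycles (a N : ℤ) [J.IsStrictlyGE a] (hfl : ∀ i, QCoh.IsFlasqueMod (J.X i))
    (hex : ∀ i, i < N → IsZero (J.homology i)) (i : ℤ) (hi : i < N) : QCoh.IsFlasqueMod (J.cycles i) := by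
  have hlow : ∀ i, i < a → QCoh.IsFlasqueMod (J.cycles i) := fun i hia =>
    isFlasqueMod_of_isZero ((IsZero.iff_id_eq_zero _).2 ((cancel_mono (J.iCycles i)).1
      ((J.isZero_of_isStrictlyGE a i hia).eq_of_tgt _ _)))
  suffices h : ∀ (k : ℕ) (i : ℤ), i < a + k → i < N → QCoh.IsFlasqueMod (J.cycles i) from
    h ((i - a).toNat + 1) i (by omega) hi
  intro k
  induction k with
  | zero => exact fun i h _ => hlow i (by omega)
  | succ k ih =>
    intro i h hN
    by_cases hia : i < a
    · exact hlow i hia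
    obtain ⟨m, rfl⟩ : ∃ m, i = m + 1 := ⟨i - 1, by omega⟩
    have hK := isFlasqueMod_of_iso (kernelToCyclesIso J m).symm (ih m (by omega) (by omega))
    obtain ⟨-, -, hI⟩ := gamma_cokernel _ _ _ (exact_toCycles J m) (hfl m) hK
    haveI : Epi (J.toCycles m (m + 1)) :=
      (exact_toCycles J m).epi_f ((hex (m + 1) hN).eq_of_tgt _ _)
    exact isFlasqueMod_of_iso (asIso (Abelian.image.ι (J.toCycles m (m + 1)))) hI

/-- Homology of sections in degrees up to the first non-exact one. -/
theorem nonempty_homology_gamma_iso (a N : ℤ) [J.IsStrictlyGE a] (hfl : ∀ i, QCoh.IsFlasqueMod (J.X i))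
    (hex : ∀ i, i < N → IsZero (J.homology i)) (n : ℤ) (hn : n ≤ N) :
    Nonempty ((((DCoh.gammaAb X).mapHomologicalComplex (ComplexShape.up ℤ)).obj J).homology n ≅
      (DCoh.gammaAb X).obj (J.homology n)) := by
  obtain ⟨m, rfl⟩ : ∃ m, n = m + 1 := ⟨n - 1, by omega⟩
  haveI := preservesFiniteLimits_gammaAb (X := X)
  obtain ⟨hE, hπ, -⟩ := gamma_cokernel _ _ _ (exact_toCycles J m) (hfl m)
    (isFlasqueMod_of_iso (kernelToCyclesIso J m).symm (isFlasqueMod_cycles J a N hfl hex m (by omega)))
  let G := DCoh.gammaAb X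
  let ΓJ := (G.mapHomologicalComplex (ComplexShape.up ℤ)).obj J
  let S := ΓJ.sc' m (m + 1) (m + 1 + 1)
  have wi : G.map (J.iCycles (m + 1)) ≫ S.g = 0 :=
    (G.map_comp _ _).symm.trans ((congrArg G.map (J.iCycles_d (m + 1) (m + 1 + 1))).trans (G.map_zero _ _))
  let hi : IsLimit (KernelFork.ofι (G.map (J.iCycles (m + 1))) wi) :=
    isLimitForkMapOfIsLimit' G (J.iCycles_d (m + 1) (m + 1 + 1))
      (J.cyclesIsKernel (m + 1) (m + 1 + 1) (by simp))
  have hf : hi.lift (KernelFork.ofι S.f S.zero) = G.map (J.toCycles m (m + 1)) := by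
    refine Fork.IsLimit.hom_ext hi ?_
    rw [Fork.IsLimit.lift_ι]
    exact (congrArg G.map (J.toCycles_i m (m + 1))).symm.trans (G.map_comp _ _)
  have wπ : hi.lift (KernelFork.ofι S.f S.zero) ≫ G.map (J.homologyπ (m + 1)) = 0 := by
    rw [hf]
    exact ((ShortComplex.mk _ _ (J.toCycles_comp_homologyπ m (m + 1))).map G).zero
  let c : IsColimit (CokernelCofork.ofπ (G.map (J.homologyπ (m + 1))) wπ) :=
    isColimitOfEq hf.symm wπ
      (haveI : Epi ((ShortComplex.mk _ _ (J.toCycles_comp_homologyπ m (m + 1))).map G).g := hπ; hE.gIsCokernel)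
  let h : S.LeftHomologyData :=
    { K := G.obj (J.cycles (m + 1))
      H := G.obj (J.homology (m + 1))
      i := G.map (J.iCycles (m + 1))
      π := G.map (J.homologyπ (m + 1))
      wi := wi
      hi := hi
      wπ := wπ
      hπ := c }
  exact ⟨ShortComplex.homologyMapIso (ΓJ.isoSc' m (m + 1) (m + 1 + 1) (by simp) (by simp)) ≪≫ h.homologyIso⟩

end Groth.Agent.CxSuppLib
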