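import Groth.Agent.CxSuppLib.Support
import Groth.Agent.KFlatLib.Scheme.TensorPCTest
import Groth.Agent.KFlatLib.Scheme.ProjFormula
import Groth.Agent.KFlatLib.Scheme.RHomExists

/-!
# Derived tensor products and supports
-/

set_option autoImplicit false
set_option linter.style.haveILetI false
set_option linter.unusedSectionVars false
set_option backward.isDefEq.respectTransparency false
set_option backward.isDefEq.respectTransparency.types false

universe u

open CategoryTheory CategoryTheory.Limits AlgebraicGeometry TopologicalSpace Opposite Pretriangulated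

attribute [local instance] HasDerivedCategory.standard

noncomputable section

namespace Groth.Agent.CxSuppLib

open KFlatLib

variable {X : Scheme.{u}}

/-- The derived tensor product maps the second map of a distinguished triangle to the first map of one. -/
theorem exists_ltensor_map_triangle (E : CochainComplex X.Modules ℤ) [DCoh.HasLTensorCx E]
    (T : Triangle (DCoh.D X)) (hT : T ∈ distTriang _) :
    ∃ (Z : DCoh.D X) (g : (DCoh.LTensorCx E).obj T.obj₃ ⟶ Z) (h : Z ⟶ ((DCoh.LTensorCx E).obj T.obj₂)⟦(1 : ℤ)⟧),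
      Triangle.mk ((DCoh.LTensorCx E).map T.mor₂) g h ∈ distTriang (DCoh.D X) ∧
        Nonempty (Z ≅ (DCoh.LTensorCx E).obj (T.obj₁⟦(1 : ℤ)⟧)) := by
  obtain ⟨A, B, φ, ⟨e⟩⟩ := (DerivedCategory.mem_distTriang_iff _).1 hT
  let φ' := (kRes X).map φ
  let T' := DerivedCategory.Q.mapTriangle.obj (CochainComplex.mappingCone.triangle φ')
  have hT' : T' ∈ distinguishedTriangles (C := DCoh.D X) :=
    (DerivedCategory.mem_distTriang_iff _).2 ⟨_, _, φ', ⟨Iso.refl _⟩⟩
  have hT₀ : DerivedCategory.Q.mapTriangle.obj (CochainComplex.mappingCone.triangle φ) ∈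
      distinguishedTriangles (C := DCoh.D X) :=
    (DerivedCategory.mem_distTriang_iff _).2 ⟨_, _, φ, ⟨Iso.refl _⟩⟩
  let e' : T' ≅ T := isoTriangleOfIso₁₂ T'
    (DerivedCategory.Q.mapTriangle.obj (CochainComplex.mappingCone.triangle φ)) hT' hT₀
    ((resQIso X).app A) ((resQIso X).app B) ((resQIso X).hom.naturality φ) ≪≫ e.symm
  have hA : DCoh.IsKFlat ((kRes X).obj A) := isKFlat_kRes A
  have hB : DCoh.IsKFlat ((kRes X).obj B) := isKFlat_kRes B
  have hC : DCoh.IsKFlat (CochainComplex.mappingCone φ') := kFlat_cone (T := DCoh.tensorBi) φ' hA hB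
  have hA1 : DCoh.IsKFlat (((kRes X).obj A)⟦(1 : ℤ)⟧) := KFlat.shift (T := DCoh.tensorBi) hA 1
  have hS : ((coneSeq φ').map (DCoh.tensorCx.flip.obj E)).ShortExact :=
    shortExact₁_of_splitting E (coneSeq φ') fun n => ⟨coneSeqSplitting φ' n⟩
  let S := DerivedCategory.triangleOfSES hS
  let L := DCoh.LTensorCx E
  let a := (DCoh.tensorCxQ E).totalLeftDerivedCounit DerivedCategory.Q (qisX X)
  let i₁ : L.obj T.obj₂ ≅ S.obj₁ := L.mapIso (Triangle.π₂.mapIso e'.symm) ≪≫ ltensorCxIso E hB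
  let i₂ : L.obj T.obj₃ ≅ S.obj₂ := L.mapIso (Triangle.π₃.mapIso e'.symm) ≪≫ ltensorCxIso E hC
  refine ⟨S.obj₃, i₂.hom ≫ S.mor₂, S.mor₃ ≫ i₁.inv⟦(1 : ℤ)⟧',
    isomorphic_distinguished _ (DerivedCategory.triangleOfSES_distinguished hS) _ ?_,
    ⟨(ltensorCxIso E hA1).symm ≪≫ L.mapIso ((DerivedCategory.Q.commShiftIso (1 : ℤ)).app _ ≪≫
      (shiftFunctor _ (1 : ℤ)).mapIso (Triangle.π₁.mapIso e'))⟩⟩
  refine Triangle.isoMk _ _ i₁ i₂ (Iso.refl _) ?_ ?_ ?_
  · change L.map T.mor₂ ≫ L.map e'.inv.hom₃ ≫ a.app (CochainComplex.mappingCone φ') =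
      (L.map e'.inv.hom₂ ≫ a.app ((kRes X).obj B)) ≫
        (DCoh.tensorCxQ E).map (CochainComplex.mappingCone.triangle φ').mor₂
    rw [Category.assoc, ← Functor.map_comp_assoc, e'.inv.comm₂, Functor.map_comp, Category.assoc]
    exact congrArg (L.map e'.inv.hom₂ ≫ ·) (a.naturality (CochainComplex.mappingCone.triangle φ').mor₂)
  · change (i₂.hom ≫ S.mor₂) ≫ 𝟙 _ = i₂.hom ≫ S.mor₂
    rw [Category.comp_id]
  · change (S.mor₃ ≫ i₁.inv⟦(1 : ℤ)⟧') ≫ i₁.hom⟦(1 : ℤ)⟧' = 𝟙 _ ≫ S.mor₃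
    rw [Category.assoc, ← Functor.map_comp, Iso.inv_hom_id, CategoryTheory.Functor.map_id, Category.id_comp]
    erw [Category.comp_id]

/-- Tensoring preserves vanishing on an open. -/
theorem isZero_restrictD_ltensor {U : Scheme.{u}} (j : U ⟶ X) [IsOpenImmersion j]
    (E : CochainComplex X.Modules ℤ) [DCoh.HasLTensorCx E] {A : DCoh.D X}
    (hA : IsZero ((DCoh.restrictD j).obj A)) :
    IsZero ((DCoh.restrictD j).obj ((DCoh.LTensorCx E).obj A)) := by
  haveI := hasLpull j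
  let P := (kRes X).obj E
  have hP : DCoh.IsKFlat P := isKFlat_kRes E
  haveI := hasLTensorCx P
  have hP' : DCoh.IsKFlat ((pullCx j).obj P) := isKFlat_pullback j hP
  haveI := hasLTensorCx ((pullCx j).obj P)
  haveI := hasRSheafHom_of_isKFlat ((pullCx j).obj P) hP'
  obtain ⟨er⟩ := nonempty_rho_iso_lpull j
  obtain ⟨el⟩ := nonempty_lpull_ltensor j P hP A
  obtain ⟨ec⟩ := nonempty_LTensorCx_congr_D ((resQIso X).app E)
  have hz : IsZero ((DCoh.LTensorCx ((pullCx j).obj P)).obj ((DCoh.Lpull j).obj A)) :=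
    (IsZero.iff_id_eq_zero _).2 (((DCoh.RSheafHomAdj ((pullCx j).obj P)).homEquiv _ _).injective
      ((hA.of_iso (er.app A).symm).eq_of_src _ _))
  exact hz.of_iso ((DCoh.restrictD j).mapIso (ec.symm.app A) ≪≫ er.app _ ≪≫ el)

end Groth.Agent.CxSuppLib
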